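import Groth.Prelude.Def_FlatCA
import Mathlib.RingTheory.LocalProperties.FinitePresentation
import Mathlib.RingTheory.Finiteness.ModuleFinitePresentation
import Mathlib.RingTheory.TensorProduct.Quotient
import Mathlib.RingTheory.Polynomial.Basic
import Mathlib.RingTheory.FinitePresentation
import Mathlib.RingTheory.FiniteStability
import Mathlib.RingTheory.IntegralClosure.IsIntegralClosure.Basic

/-!
# Finite presentation of a module relative to a base ring

The notion does not depend on the presentation; it is local and stable under the usual operations.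
-/

set_option autoImplicit false
set_option linter.style.haveILetI false
noncomputable section

universe u

open TensorProduct FlatCA

namespace Groth.Agent.H56.RelFP.Core

/-- `N` is finitely presented over `A` through `ρ`. -/
def Via {A S : Type u} [CommRing A] [CommRing S] (ρ : A →+* S) (N : Type u) [AddCommGroup N]
    [Module S N] : Prop :=
  letI : Module A N := Module.compHom N ρ
  Module.FinitePresentation A N

section Via

variable {A B S : Type u} [CommRing A] [CommRing B] [CommRing S]
variable {N : Type u} [AddCommGroup N] [Module S N]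

theorem via_iff (ρ : A →+* S) [inst : Module A N] (h : ∀ (a : A) (x : N), a • x = ρ a • x) :
    Via ρ N ↔ Module.FinitePresentation A N := by
  obtain rfl : inst = Module.compHom N ρ := Module.ext' _ _ h
  exact Iff.rfl

theorem fp_of_fp_finite [Algebra A B] [Module.Finite A B] (M : Type u) [AddCommGroup M]
    [Module A M] [Module B M] [IsScalarTower A B M] [Module.FinitePresentation A M] :
    Module.FinitePresentation B M := by
  have : Module.Finite B M := Module.Finite.of_restrictScalars_finite A B M
  obtain ⟨n, f, hf⟩ := Module.Finite.exists_fin' B M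
  refine Module.finitePresentation_of_surjective f hf ?_
  obtain ⟨s, hs⟩ := Module.FinitePresentation.fg_ker (f.restrictScalars A) hf
  refine ⟨s, le_antisymm (Submodule.span_le.2 fun x hx => ?_) fun x hx => ?_⟩
  · exact (hs ▸ Submodule.subset_span hx : x ∈ LinearMap.ker (f.restrictScalars A))
  · have : x ∈ Submodule.span A (s : Set (Fin n → B)) := hs.symm ▸ hx
    exact Submodule.span_le_restrictScalars A B _ this

theorem via_comp_of_finite (σ : A →+* B) (ρ : B →+* S) (hσ : σ.Finite)
    (h : Via (ρ.comp σ) N) : Via ρ N := by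
  letI := σ.toAlgebra
  letI : Module B N := Module.compHom N ρ
  letI : Module A N := Module.compHom N (ρ.comp σ)
  haveI : IsScalarTower A B N := IsScalarTower.of_algebraMap_smul fun _ _ => rfl
  haveI : Module.Finite A B := hσ
  haveI : Module.FinitePresentation A N := h
  exact fp_of_fp_finite (A := A) (B := B) N

theorem via_comp_of_surjective (σ : A →+* B) (ρ : B →+* S) (hσ : Function.Surjective σ)
    (h : Via (ρ.comp σ) N) : Via ρ N :=
  via_comp_of_finite σ ρ (RingHom.Finite.of_surjective σ hσ) h

theorem via_comp (σ : A →+* B) (ρ : B →+* S)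
    (hσ : letI := σ.toAlgebra; Module.FinitePresentation A B) (h : Via ρ N) :
    Via (ρ.comp σ) N := by
  letI := σ.toAlgebra
  letI : Module B N := Module.compHom N ρ
  letI : Module A N := Module.compHom N (ρ.comp σ)
  haveI : IsScalarTower A B N := IsScalarTower.of_algebraMap_smul fun _ _ => rfl
  haveI : Module.FinitePresentation B N := h
  haveI : Module.FinitePresentation A B := hσ
  exact Module.FinitePresentation.trans A N B

theorem via_comp_surjective_iff (σ : A →+* B) (ρ : B →+* S) (hσ : Function.Surjective σ)
    (hker : (RingHom.ker σ).FG) : Via (ρ.comp σ) N ↔ Via ρ N := by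
  refine ⟨via_comp_of_surjective σ ρ hσ, via_comp σ ρ ?_⟩
  letI := σ.toAlgebra
  exact Module.finitePresentation_of_surjective (Algebra.linearMap A B) hσ hker

theorem via_of_equiv {S' : Type u} [CommRing S'] {N' : Type u} [AddCommGroup N'] [Module S' N']
    {ρ : A →+* S} {ρ' : A →+* S'} (e : N ≃+ N') (he : ∀ a x, e (ρ a • x) = ρ' a • e x)
    (h : Via ρ N) : Via ρ' N' := by
  letI : Module A N := Module.compHom N ρ
  letI : Module A N' := Module.compHom N' ρ'
  haveI : Module.FinitePresentation A N := h
  exact Module.FinitePresentation.of_equiv ({ e with map_smul' := he } : N ≃ₗ[A] N')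

end Via

section Independence

variable {R S : Type u} [CommRing R] [CommRing S] [Algebra R S]
variable {N : Type u} [AddCommGroup N] [Module S N]

theorem via_polynomial_iff {n : ℕ} (φ : MvPolynomial (Fin n) R →ₐ[R] S) (hφ : Function.Surjective φ)
    {P : Type u} [CommRing P] [Algebra R P] [Algebra.FinitePresentation R P] (ψ : P →ₐ[R] S)
    (hψ : Function.Surjective ψ) : Via φ.toRingHom N ↔ Via ψ.toRingHom N := by
  obtain ⟨m, π, hπ, hπk⟩ := (inferInstance : Algebra.FinitePresentation R P).out
  choose g hg using fun j : Fin m => hφ (ψ (π (MvPolynomial.X j)))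
  choose h hh using fun i : Fin n => hψ (φ (MvPolynomial.X i))
  let a : MvPolynomial (Fin n ⊕ Fin m) R →ₐ[R] MvPolynomial (Fin n) R :=
    MvPolynomial.aeval (Sum.elim MvPolynomial.X g)
  let b : MvPolynomial (Fin n ⊕ Fin m) R →ₐ[R] P :=
    MvPolynomial.aeval (Sum.elim h fun j => π (MvPolynomial.X j))
  have hab : φ.comp a = ψ.comp b := MvPolynomial.algHom_ext fun i => by
    rcases i with i | j
    · simp [a, b, hh]
    · simp [a, b, hg]
  have ha : Function.Surjective a := fun p => by
    refine ⟨MvPolynomial.rename Sum.inl p, ?_⟩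
    simp [a, MvPolynomial.bind₁_rename, Function.comp_def]
  have hb : Function.Surjective b := fun p => by
    obtain ⟨q, rfl⟩ := hπ p
    refine ⟨MvPolynomial.rename Sum.inr q, ?_⟩
    rw [show π q = MvPolynomial.aeval (fun j => π (MvPolynomial.X j)) q from
      DFunLike.congr_fun (MvPolynomial.aeval_unique π) q]
    simp [b, MvPolynomial.aeval_rename, Function.comp_def]
  rw [← via_comp_surjective_iff a.toRingHom φ.toRingHom ha
      (Algebra.FinitePresentation.ker_fG_of_surjective a ha),
    ← via_comp_surjective_iff b.toRingHom ψ.toRingHom hb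
      (Algebra.FinitePresentation.ker_fG_of_surjective b hb)]
  show Via (φ.comp a).toRingHom N ↔ Via (ψ.comp b).toRingHom N
  rw [hab]

/-- Relative finite presentation may be tested on any finitely presented algebra over the base
surjecting onto the ring. -/
theorem rel_iff {P : Type u} [CommRing P] [Algebra R P] [Algebra.FinitePresentation R P]
    (ψ : P →ₐ[R] S) (hψ : Function.Surjective ψ) :
    RelFinitePresentation R S N ↔ Via ψ.toRingHom N := by
  constructor
  · rintro ⟨n, φ, hφ, h⟩
    exact (via_polynomial_iff φ hφ ψ hψ).1 h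
  · intro h
    obtain ⟨m, π, hπ, -⟩ := (inferInstance : Algebra.FinitePresentation R P).out
    exact ⟨m, ψ.comp π, hψ.comp hπ, (via_polynomial_iff (ψ.comp π) (hψ.comp hπ) ψ hψ).2 h⟩

theorem finiteType_of_rel (h : RelFinitePresentation R S N) : Algebra.FiniteType R S := by
  obtain ⟨n, φ, hφ, -⟩ := h
  exact Algebra.FiniteType.of_surjective φ hφ

theorem rel_of_equiv {S' : Type u} [CommRing S'] [Algebra R S'] {N' : Type u} [AddCommGroup N']
    [Module S' N'] (ε : S ≃ₐ[R] S') (e : N ≃+ N') (he : ∀ a x, e (a • x) = ε a • e x)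
    (h : RelFinitePresentation R S N) : RelFinitePresentation R S' N' := by
  obtain ⟨n, φ, hφ, h⟩ := h
  exact ⟨n, ε.toAlgHom.comp φ, ε.surjective.comp hφ,
    via_of_equiv (ρ := φ.toRingHom) (ρ' := (ε.toAlgHom.comp φ).toRingHom) e
      (fun a x => he (φ a) x) h⟩

end Independence

section Tower

variable {R R' S : Type u} [CommRing R] [CommRing R'] [CommRing S]
variable [Algebra R R'] [Algebra R S] [Algebra R' S] [IsScalarTower R R' S]
variable {N : Type u} [AddCommGroup N] [Module S N]

theorem rel_of_finiteType [Algebra.FiniteType R R'] (h : RelFinitePresentation R S N) :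
    RelFinitePresentation R' S N := by
  obtain ⟨n, φ, hφ, h⟩ := h
  obtain ⟨m, π, hπ⟩ := Algebra.FiniteType.iff_quotient_mvPolynomial''.1
    (inferInstance : Algebra.FiniteType R R')
  let φ' : MvPolynomial (Fin n) R' →ₐ[R'] S := MvPolynomial.aeval fun i => φ (MvPolynomial.X i)
  have hφ' : Function.Surjective φ' := fun s => by
    obtain ⟨p, rfl⟩ := hφ s
    refine ⟨MvPolynomial.map (algebraMap R R') p, ?_⟩
    simp only [φ', MvPolynomial.aeval_map_algebraMap]
    exact (DFunLike.congr_fun (MvPolynomial.aeval_unique φ) p).symm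
  refine ⟨n, φ', hφ', ?_⟩
  let σ : MvPolynomial (Fin n) (MvPolynomial (Fin m) R) →ₐ[R] MvPolynomial (Fin n) R' :=
    MvPolynomial.mapAlgHom π
  have hσ : Function.Surjective σ := MvPolynomial.map_surjective π.toRingHom hπ
  have := (rel_iff ((φ'.restrictScalars R).comp σ) (hφ'.comp hσ)).1 ⟨n, φ, hφ, h⟩
  exact via_comp_of_surjective σ.toRingHom φ'.toRingHom hσ this

theorem rel_of_finitePresentation [Algebra.FinitePresentation R R']
    (h : RelFinitePresentation R' S N) : RelFinitePresentation R S N := by
  obtain ⟨n, φ, hφ, h⟩ := h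
  have : Algebra.FinitePresentation R (MvPolynomial (Fin n) R') := .trans R R' _
  exact (rel_iff (φ.restrictScalars R) hφ).2 h

end Tower

section Localization

variable {R S : Type u} [CommRing R] [CommRing S] [Algebra R S]
variable {N : Type u} [AddCommGroup N] [Module S N]

/-- Localisation along a surjection. -/
theorem isLocalizedModule_restrict {P : Type u} [CommRing P] (ψ : P →+* S) (a : P)
    {N' : Type u} [AddCommGroup N'] [Module S N'] [Module P N] [Module P N']
    (hN : ∀ (p : P) (x : N), p • x = ψ p • x) (hN' : ∀ (p : P) (x : N'), p • x = ψ p • x)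
    (f : N →ₗ[S] N') [IsLocalizedModule (Submonoid.powers (ψ a)) f]
    (f' : N →ₗ[P] N') (hf : ∀ x, f' x = f x) : IsLocalizedModule (Submonoid.powers a) f' := by
  refine ⟨?_, fun y => ?_, fun {x y} h => ?_⟩
  · rintro ⟨_, k, rfl⟩
    rw [Module.End.isUnit_iff]
    have := (Module.End.isUnit_iff _).1 (IsLocalizedModule.map_units f
      (⟨ψ a ^ k, k, rfl⟩ : Submonoid.powers (ψ a)))
    convert this using 1
    funext x
    show (a ^ k) • x = (ψ a ^ k) • x
    rw [hN', map_pow]
  · obtain ⟨⟨x, _, k, rfl⟩, hx⟩ := IsLocalizedModule.surj (Submonoid.powers (ψ a)) f y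
    refine ⟨⟨x, ⟨a ^ k, k, rfl⟩⟩, ?_⟩
    rw [hf, Submonoid.smul_def, hN', map_pow]
    exact hx
  · rw [hf, hf] at h
    obtain ⟨⟨_, k, rfl⟩, hc⟩ := IsLocalizedModule.exists_of_eq (S := Submonoid.powers (ψ a)) h
    refine ⟨⟨a ^ k, k, rfl⟩, ?_⟩
    rw [Submonoid.smul_def, Submonoid.smul_def, hN, hN, map_pow]
    exact hc

variable {S' : Type u} [CommRing S'] [Algebra S S'] [Algebra R S'] [IsScalarTower R S S']
variable {N' : Type u} [AddCommGroup N'] [Module S N'] [Module S' N'] [IsScalarTower S S' N']

/-- The common setting of localisation: a surjection of the localised rings. -/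
theorem exists_away_hom {P : Type u} [CommRing P] [Algebra R P] (ψ : P →ₐ[R] S)
    (hψ : Function.Surjective ψ) (a : P) [IsLocalization.Away (ψ a) S'] :
    ∃ ψ' : Localization.Away a →ₐ[R] S', Function.Surjective ψ' ∧
      ∀ p, ψ' (algebraMap P (Localization.Away a) p) = algebraMap S S' (ψ p) := by
  have hu : ∀ y : Submonoid.powers a, IsUnit (((IsScalarTower.toAlgHom R S S').comp ψ) y) := by
    rintro ⟨_, k, rfl⟩
    show IsUnit (algebraMap S S' (ψ (a ^ k)))
    rw [map_pow, map_pow]
    exact (IsLocalization.Away.algebraMap_isUnit (ψ a)).pow k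
  let ψ' : Localization.Away a →ₐ[R] S' := IsLocalization.liftAlgHom hu
  have hcomp : ∀ p, ψ' (algebraMap P (Localization.Away a) p) = algebraMap S S' (ψ p) :=
    fun p => IsLocalization.lift_eq _ p
  refine ⟨ψ', fun y => ?_, hcomp⟩
  obtain ⟨k, s, hs⟩ := IsLocalization.Away.surj (ψ a) y
  obtain ⟨p, rfl⟩ := hψ s
  obtain ⟨w, hw⟩ := IsLocalization.Away.algebraMap_isUnit (S := Localization.Away a) a
  refine ⟨algebraMap P (Localization.Away a) p * ((w⁻¹ : (Localization.Away a)ˣ) : Localization.Away a) ^ k, ?_⟩
  rw [map_mul, map_pow, hcomp, ← hs, mul_assoc, ← mul_pow, ← hcomp, ← map_mul, ← hw,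
    Units.mul_inv, map_one, one_pow, mul_one]

/-- Relative finite presentation localises. -/
theorem rel_localization (g : S) [IsLocalization.Away g S'] (f : N →ₗ[S] N')
    [IsLocalizedModule (Submonoid.powers g) f] (h : RelFinitePresentation R S N) :
    RelFinitePresentation R S' N' := by
  obtain ⟨n, φ, hφ, h⟩ := h
  obtain ⟨a, rfl⟩ := hφ g
  obtain ⟨ψ', hψ', hcomp⟩ := exists_away_hom (S' := S') φ hφ a
  let P := MvPolynomial (Fin n) R
  have : Algebra.FinitePresentation P (Localization.Away a) :=
    IsLocalization.Away.finitePresentation a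
  have : Algebra.FinitePresentation R (Localization.Away a) := .trans R P _
  rw [rel_iff ψ' hψ']
  letI : Module P N := Module.compHom N φ.toRingHom
  letI : Module P N' := Module.compHom N' ((algebraMap S S').comp φ.toRingHom)
  letI : Module (Localization.Away a) N' := Module.compHom N' ψ'.toRingHom
  haveI : IsScalarTower P (Localization.Away a) N' := IsScalarTower.of_algebraMap_smul fun p x => by
    show ψ' (algebraMap P (Localization.Away a) p) • x = algebraMap S S' (φ p) • x
    rw [hcomp]
  have hsmul : ∀ (p : P) (x : N), f (p • x) = p • f x := fun p x => by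
    show f (φ p • x) = algebraMap S S' (φ p) • f x
    rw [map_smul, algebraMap_smul]
  let f' : N →ₗ[P] N' := { toFun := f, map_add' := map_add f, map_smul' := hsmul }
  haveI : IsLocalizedModule (Submonoid.powers (φ.toRingHom a)) f := ‹_›
  haveI := isLocalizedModule_restrict φ.toRingHom a (fun _ _ => rfl)
    (fun p x => (algebraMap_smul S' (φ p) x : _)) f f' fun _ => rfl
  haveI : Module.FinitePresentation P N := h
  exact FinitePresentation.of_isBaseChange f'
    ((isLocalizedModule_iff_isBaseChange (Submonoid.powers a) (Localization.Away a) f').1 inferInstance)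

omit S' N'

theorem fp_localizedModule_of_equiv {P : Type u} [CommRing P] (T : Submonoid P) {M M' : Type u}
    [AddCommGroup M] [Module P M] [AddCommGroup M'] [Module P M'] [Module (Localization T) M']
    [IsScalarTower P (Localization T) M'] (f : M →ₗ[P] M') [IsLocalizedModule T f]
    [Module.FinitePresentation (Localization T) M'] :
    Module.FinitePresentation (Localization T) (LocalizedModule T M) :=
  Module.FinitePresentation.of_equiv
    ((IsLocalizedModule.iso T f).symm.extendScalarsOfIsLocalization T (Localization T))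

/-- Relative finite presentation is local. -/
theorem rel_of_span [Algebra.FiniteType R S] {ι : Type u} (g : ι → S)
    (hg : Ideal.span (Set.range g) = ⊤)
    {S' : ι → Type u} [∀ i, CommRing (S' i)] [∀ i, Algebra S (S' i)] [∀ i, Algebra R (S' i)]
    [∀ i, IsScalarTower R S (S' i)] [∀ i, IsLocalization.Away (g i) (S' i)]
    {N' : ι → Type u} [∀ i, AddCommGroup (N' i)] [∀ i, Module S (N' i)]
    [∀ i, Module (S' i) (N' i)] [∀ i, IsScalarTower S (S' i) (N' i)]
    (f : ∀ i, N →ₗ[S] N' i) (hf : ∀ i, IsLocalizedModule (Submonoid.powers (g i)) (f i))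
    (h : ∀ i, RelFinitePresentation R (S' i) (N' i)) : RelFinitePresentation R S N := by
  obtain ⟨n, φ, hφ⟩ := Algebra.FiniteType.iff_quotient_mvPolynomial''.1
    (inferInstance : Algebra.FiniteType R S)
  let P := MvPolynomial (Fin n) R
  choose a ha using fun i => hφ (g i)
  obtain ⟨c, hc⟩ : ∃ c : ι →₀ S, Finsupp.linearCombination S g c = 1 :=
    (Finsupp.mem_span_range_iff_exists_finsupp (R := S)).1
      (show (1 : S) ∈ Submodule.span S (Set.range g) by rw [show Submodule.span S (Set.range g) = _ from hg]; trivial)
      |>.imp fun c hc => hc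
  choose b hb using fun i => hφ (c i)
  let a₀ : P := 1 - ∑ i ∈ c.support, b i * a i
  have ha₀ : φ a₀ = 0 := by
    rw [Finsupp.linearCombination_apply, Finsupp.sum] at hc
    simp only [a₀, map_sub, map_one, map_sum, map_mul, hb, ha]
    rw [sub_eq_zero]
    exact hc.symm
  let s : Set P := insert a₀ (Set.range a)
  have hs : Ideal.span s = ⊤ := by
    rw [Ideal.eq_top_iff_one, show (1 : P) = a₀ + ∑ i ∈ c.support, b i * a i by ring]
    exact add_mem (Ideal.subset_span (Set.mem_insert _ _)) (Ideal.sum_mem _ fun i _ =>
      Ideal.mul_mem_left _ _ (Ideal.subset_span (Set.mem_insert_of_mem _ ⟨i, rfl⟩)))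
  refine ⟨n, φ, hφ, ?_⟩
  letI : Module P N := Module.compHom N φ.toRingHom
  refine Module.FinitePresentation.of_localizationSpan s hs ?_
  rintro ⟨p, rfl | ⟨i, rfl⟩⟩
  · haveI : Subsingleton (LocalizedModule.Away a₀ N) := LocalizedModule.subsingleton_iff.2
      fun x => ⟨a₀, Submonoid.mem_powers a₀, by show φ a₀ • x = 0; rw [ha₀, zero_smul]⟩
    infer_instance
  · haveI : IsLocalization.Away (φ (a i)) (S' i) := by rw [ha]; infer_instance
    obtain ⟨ψ', hψ', hcomp⟩ := exists_away_hom (S' := S' i) φ hφ (a i)
    have : Algebra.FinitePresentation P (Localization.Away (a i)) :=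
      IsLocalization.Away.finitePresentation (a i)
    have : Algebra.FinitePresentation R (Localization.Away (a i)) := .trans R P _
    have hv := (rel_iff ψ' hψ').1 (h i)
    letI : Module P (N' i) := Module.compHom (N' i) ((algebraMap S (S' i)).comp φ.toRingHom)
    letI : Module (Localization.Away (a i)) (N' i) := Module.compHom (N' i) ψ'.toRingHom
    haveI : IsScalarTower P (Localization.Away (a i)) (N' i) :=
      IsScalarTower.of_algebraMap_smul fun p x => by
        show ψ' (algebraMap P (Localization.Away (a i)) p) • x = algebraMap S (S' i) (φ p) • x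
        rw [hcomp]
    have hsmul : ∀ (p : P) (x : N), f i (p • x) = p • f i x := fun p x => by
      show f i (φ p • x) = algebraMap S (S' i) (φ p) • f i x
      rw [map_smul, algebraMap_smul]
    let f' : N →ₗ[P] N' i := { toFun := f i, map_add' := map_add (f i), map_smul' := hsmul }
    haveI : IsLocalizedModule (Submonoid.powers (φ.toRingHom (a i))) (f i) := by
      show IsLocalizedModule (Submonoid.powers (φ (a i))) (f i)
      rw [ha]; exact hf i
    haveI := isLocalizedModule_restrict φ.toRingHom (a i) (fun _ _ => rfl)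
      (fun p x => (algebraMap_smul (S' i) (φ p) x : _)) (f i) f' fun _ => rfl
    haveI : Module.FinitePresentation (Localization.Away (a i)) (N' i) := hv
    exact fp_localizedModule_of_equiv (Submonoid.powers (a i)) f'

end Localization

end Groth.Agent.H56.RelFP.Core
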