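import Groth.Agent.H56.RelFP.Core
import Mathlib.RingTheory.Polynomial.Quotient
import Mathlib.RingTheory.IntegralClosure.Algebra.Basic
import Mathlib.LinearAlgebra.TensorProduct.RightExactness

/-!
# Operations preserving relative finite presentation
-/

set_option autoImplicit false
set_option linter.style.haveILetI false
noncomputable section

universe u

open TensorProduct FlatCA Groth.Agent.H56.RelFP.Core

namespace Groth.Agent.H56.RelFP.Ops

/-- Base change along a map of presenting rings. -/
theorem via_tensor {P P' S T : Type u} [CommRing P] [CommRing P'] [CommRing S] [CommRing T]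
    [Algebra S T] [Algebra P P'] (ψ : P →+* S) (ψ' : P' →+* T) (hψ : Function.Surjective ψ)
    (hψ' : Function.Surjective ψ')
    (hc : ∀ p, ψ' (algebraMap P P' p) = algebraMap S T (ψ p)) (J : Ideal P') (hJ : J.FG)
    (hker : RingHom.ker ψ' = (RingHom.ker ψ).map (algebraMap P P') ⊔ J)
    {N : Type u} [AddCommGroup N] [Module S N] (h : Via ψ N) : Via ψ' (T ⊗[S] N) := by
  letI : Module P N := Module.compHom N ψ
  letI : Module P' (T ⊗[S] N) := Module.compHom (T ⊗[S] N) ψ'
  letI : Module P (T ⊗[S] N) := Module.compHom (T ⊗[S] N) (ψ'.comp (algebraMap P P'))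
  haveI : IsScalarTower P P' (T ⊗[S] N) :=
    IsScalarTower.of_algebraMap_smul fun _ _ => rfl
  haveI : Module.FinitePresentation P N := h
  let u : N →ₗ[P] T ⊗[S] N :=
    { toFun := fun x => (1 : T) ⊗ₜ x
      map_add' := tmul_add _
      map_smul' := fun p x => by
        show (1 : T) ⊗ₜ (ψ p • x) = ψ' (algebraMap P P' p) • ((1 : T) ⊗ₜ[S] x)
        rw [hc, algebraMap_smul, tmul_smul] }
  let μ : P' ⊗[P] N →ₗ[P'] T ⊗[S] N := LinearMap.liftBaseChange P' u
  have hμ : ∀ (a : P') (x : N), μ (a ⊗ₜ x) = ψ' a ⊗ₜ x := fun a x => by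
    show ψ' a • ((1 : T) ⊗ₜ[S] x) = _
    rw [smul_tmul', smul_eq_mul, mul_one]
  have hμs : Function.Surjective μ := fun z => by
    induction z using TensorProduct.induction_on with
    | zero => exact ⟨0, map_zero _⟩
    | tmul t x =>
      obtain ⟨a, rfl⟩ := hψ' t
      exact ⟨a ⊗ₜ x, hμ a x⟩
    | add x y hx hy =>
      obtain ⟨a, rfl⟩ := hx
      obtain ⟨b, rfl⟩ := hy
      exact ⟨a + b, map_add _ _ _⟩
  show Module.FinitePresentation P' (T ⊗[S] N)
  refine Module.finitePresentation_of_surjective μ hμs ?_
  suffices LinearMap.ker μ = J • (⊤ : Submodule P' (P' ⊗[P] N)) by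
    rw [this]; exact Submodule.FG.smul hJ Module.Finite.fg_top
  apply le_antisymm
  · let K := J • (⊤ : Submodule P' (P' ⊗[P] N))
    let q : P' → N → (P' ⊗[P] N) ⧸ K := fun a x => Submodule.Quotient.mk (a ⊗ₜ x)
    have hq0 : ∀ a, ψ' a = 0 → ∀ x, q a x = 0 := by
      intro a ha x
      refine (Submodule.Quotient.mk_eq_zero K).2 ?_
      have ha' : a ∈ (RingHom.ker ψ).map (algebraMap P P') ⊔ J := hker ▸ ha
      obtain ⟨b, hb, j, hj, rfl⟩ := Submodule.mem_sup.1 ha'
      rw [add_tmul]
      refine add_mem ?_ ?_
      · clear ha ha'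
        revert hb
        intro hb
        induction hb using Submodule.span_induction with
        | mem c hc' =>
          obtain ⟨p, hp, rfl⟩ := hc'
          rw [Algebra.algebraMap_eq_smul_one, smul_tmul]
          have : p • x = 0 := by
            show ψ p • x = 0
            rw [show ψ p = 0 from hp, zero_smul]
          rw [this, tmul_zero]
          exact zero_mem _
        | zero => rw [zero_tmul]; exact zero_mem _
        | add c d _ _ hc' hd => rw [add_tmul]; exact add_mem hc' hd
        | smul r c _ hc' => rw [← smul_tmul']; exact Submodule.smul_mem _ r hc'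
      · rw [show j ⊗ₜ[P] x = j • ((1 : P') ⊗ₜ[P] x) by rw [smul_tmul', smul_eq_mul, mul_one]]
        exact Submodule.smul_mem_smul hj trivial
    have hq : ∀ a b, ψ' a = ψ' b → ∀ x, q a x = q b x := fun a b hab x => by
      have := hq0 (a - b) (by rw [map_sub, hab, sub_self]) x
      rw [← sub_eq_zero]
      simpa [q, sub_tmul] using this
    choose σ hσ using hψ'
    let ν : T ⊗[S] N →+ (P' ⊗[P] N) ⧸ K := TensorProduct.liftAddHom
      { toFun := fun t =>
          { toFun := q (σ t)
            map_zero' := by simp [q]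
            map_add' := fun x y => by simp [q, tmul_add] }
        map_zero' := AddMonoidHom.ext fun x => hq0 _ (hσ 0) x
        map_add' := fun t t' => AddMonoidHom.ext fun x => by
          show q (σ (t + t')) x = q (σ t) x + q (σ t') x
          rw [hq _ (σ t + σ t') (by rw [map_add, hσ, hσ, hσ]) x]
          simp [q, add_tmul] }
      fun s t x => by
        obtain ⟨p, rfl⟩ := hψ s
        show q (σ (ψ p • t)) x = q (σ t) (ψ p • x)
        rw [hq _ (algebraMap P P' p * σ t) (by rw [map_mul, hσ, hσ, hc, Algebra.smul_def]) x]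
        show Submodule.Quotient.mk ((algebraMap P P' p * σ t) ⊗ₜ x) =
          Submodule.Quotient.mk (σ t ⊗ₜ (p • x))
        rw [← Algebra.smul_def, smul_tmul]
    have hν : ∀ z, ν (μ z) = Submodule.Quotient.mk z := fun z => by
      induction z using TensorProduct.induction_on with
      | zero => simp
      | tmul a x => rw [hμ]; exact hq _ a (hσ _) x
      | add x y hx hy => rw [map_add, map_add, hx, hy]; rfl
    intro z hz
    rw [← Submodule.Quotient.mk_eq_zero K, ← hν, LinearMap.mem_ker.1 hz, map_zero]
  · refine Submodule.smul_le.2 fun j hj z _ => ?_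
    rw [LinearMap.mem_ker, map_smul]
    show ψ' j • μ z = 0
    rw [show ψ' j = 0 from (hker.symm ▸ Submodule.mem_sup_right hj : j ∈ RingHom.ker ψ'), zero_smul]

section Tensor

variable {R S : Type u} [CommRing R] [CommRing S] [Algebra R S]
variable {N : Type u} [AddCommGroup N] [Module S N]

/-- Relative finite presentation is stable under base change. -/
theorem rel_baseChange (R' : Type u) [CommRing R'] [Algebra R R'] (h : RelFinitePresentation R S N) :
    letI : Algebra S (R' ⊗[R] S) := Algebra.TensorProduct.includeRight.toRingHom.toAlgebra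
    RelFinitePresentation R' (R' ⊗[R] S) ((R' ⊗[R] S) ⊗[S] N) := by
  letI : Algebra S (R' ⊗[R] S) := Algebra.TensorProduct.includeRight.toRingHom.toAlgebra
  obtain ⟨n, φ, hφ, h⟩ := h
  let P := MvPolynomial (Fin n) R
  letI : Algebra P (R' ⊗[R] P) := Algebra.TensorProduct.includeRight.toRingHom.toAlgebra
  let φ' : R' ⊗[R] P →ₐ[R'] R' ⊗[R] S := Algebra.TensorProduct.map (AlgHom.id R' R') φ
  have hs : Function.Surjective φ' := LinearMap.lTensor_surjective R' (g := φ.toLinearMap) hφ
  rw [rel_iff φ' hs]
  refine via_tensor φ.toRingHom φ'.toRingHom hφ hs (fun p => ?_) ⊥ Submodule.fg_bot ?_ h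
  · simp [φ', RingHom.algebraMap_toAlgebra]
  · rw [sup_bot_eq]
    exact Algebra.TensorProduct.lTensor_ker (A := R') φ hφ

/-- Relative finite presentation is stable under base change, for any pushout of rings. -/
theorem rel_isPushout (R' S' : Type u) [CommRing R'] [CommRing S'] [Algebra R R'] [Algebra R S']
    [Algebra R' S'] [Algebra S S'] [IsScalarTower R R' S'] [IsScalarTower R S S']
    [Algebra.IsPushout R R' S S'] (h : RelFinitePresentation R S N) :
    RelFinitePresentation R' S' (S' ⊗[S] N) := by
  obtain ⟨n, φ, hφ, h⟩ := h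
  let P := MvPolynomial (Fin n) R
  letI : Algebra P (R' ⊗[R] P) := Algebra.TensorProduct.includeRight.toRingHom.toAlgebra
  let ε : R' ⊗[R] S ≃ₐ[R'] S' := Algebra.IsPushout.equiv R R' S S'
  let φ₀ : R' ⊗[R] P →ₐ[R'] R' ⊗[R] S := Algebra.TensorProduct.map (AlgHom.id R' R') φ
  let φ' : R' ⊗[R] P →ₐ[R'] S' := ε.toAlgHom.comp φ₀
  have hs₀ : Function.Surjective φ₀ := LinearMap.lTensor_surjective R' (g := φ.toLinearMap) hφ
  have hs : Function.Surjective φ' := ε.surjective.comp hs₀
  rw [rel_iff φ' hs]
  refine via_tensor φ.toRingHom φ'.toRingHom hφ hs (fun p => ?_) ⊥ Submodule.fg_bot ?_ h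
  · simp [φ', φ₀, ε, RingHom.algebraMap_toAlgebra, Algebra.IsPushout.equiv_tmul]
  · rw [sup_bot_eq]
    refine Eq.trans ?_ (Algebra.TensorProduct.lTensor_ker (A := R') φ hφ)
    ext z
    exact ⟨fun hz => ε.injective ((hz : φ' z = 0).trans (map_zero ε).symm),
      fun hz => (congrArg ε (hz : φ₀ z = 0)).trans (map_zero ε)⟩

/-- Relative finite presentation ascends along algebras of finite presentation. -/
theorem rel_tensor (T : Type u) [CommRing T] [Algebra S T] [Algebra R T] [IsScalarTower R S T]
    [Algebra.FinitePresentation S T] (h : RelFinitePresentation R S N) :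
    RelFinitePresentation R T (T ⊗[S] N) := by
  obtain ⟨n, φ, hφ, h⟩ := h
  obtain ⟨m, π, hπ, hπk⟩ := (inferInstance : Algebra.FinitePresentation S T).out
  let P := MvPolynomial (Fin n) R
  have hms : Function.Surjective (MvPolynomial.map (σ := Fin m) φ.toRingHom) :=
    MvPolynomial.map_surjective _ hφ
  let ψ' : MvPolynomial (Fin m) P →ₐ[R] T :=
    (π.restrictScalars R).comp (MvPolynomial.mapAlgHom φ)
  have hψ' : Function.Surjective ψ' := hπ.comp hms
  have : Algebra.FinitePresentation R (MvPolynomial (Fin m) P) := .trans R P _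
  obtain ⟨G, hG⟩ := hπk
  classical
  choose lift hlift using hms
  rw [rel_iff ψ' hψ']
  refine via_tensor φ.toRingHom ψ'.toRingHom hφ hψ' (fun p => ?_)
    (Ideal.span (lift '' (G : Set (MvPolynomial (Fin m) S))))
    ⟨G.image lift, by rw [Finset.coe_image]⟩ ?_ h
  · show π (MvPolynomial.map φ.toRingHom (MvPolynomial.C p)) = _
    rw [MvPolynomial.map_C]
    exact π.commutes _
  · show RingHom.ker (π.toRingHom.comp (MvPolynomial.map φ.toRingHom)) = _
    have e1 : RingHom.ker π.toRingHom = Ideal.map (MvPolynomial.map φ.toRingHom)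
        (Ideal.span (lift '' (G : Set (MvPolynomial (Fin m) S)))) := by
      rw [Ideal.map_span, ← hG, Set.image_image,
        show (fun x => MvPolynomial.map φ.toRingHom (lift x)) = id from funext hlift, Set.image_id]
    rw [← RingHom.comap_ker, e1, Ideal.comap_map_of_surjective _ (MvPolynomial.map_surjective _ hφ),
      ← RingHom.ker_eq_comap_bot, MvPolynomial.ker_map, sup_comm]
    rfl

end Tensor

section Modules

variable {R S : Type u} [CommRing R] [CommRing S] [Algebra R S]
variable {N₁ N₂ N₃ : Type u} [AddCommGroup N₁] [Module S N₁] [AddCommGroup N₂] [Module S N₂]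
  [AddCommGroup N₃] [Module S N₃]

/-- An extension of relatively finitely presented modules is relatively finitely presented. -/
theorem rel_extension (i : N₁ →ₗ[S] N₂) (p : N₂ →ₗ[S] N₃) (hi : Function.Injective i)
    (hp : Function.Surjective p) (he : Function.Exact i p)
    (h₁ : RelFinitePresentation R S N₁) (h₃ : RelFinitePresentation R S N₃) :
    RelFinitePresentation R S N₂ := by
  obtain ⟨n, φ, hφ, h₁⟩ := h₁
  have h₃' := (rel_iff φ hφ).1 h₃
  refine ⟨n, φ, hφ, ?_⟩
  let P := MvPolynomial (Fin n) R
  letI : Module P N₁ := Module.compHom N₁ φ.toRingHom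
  letI : Module P N₂ := Module.compHom N₂ φ.toRingHom
  letI : Module P N₃ := Module.compHom N₃ φ.toRingHom
  let i' : N₁ →ₗ[P] N₂ := { toFun := i, map_add' := map_add i, map_smul' := fun a x => map_smul i (φ a) x }
  let p' : N₂ →ₗ[P] N₃ := { toFun := p, map_add' := map_add p, map_smul' := fun a x => map_smul p (φ a) x }
  have hr : LinearMap.range i' = LinearMap.ker p' := (LinearMap.exact_iff.1 (show Function.Exact i' p' from he)).symm
  haveI : Module.FinitePresentation P N₁ := h₁
  haveI : Module.FinitePresentation P (LinearMap.ker p') := Module.FinitePresentation.of_equiv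
    ((LinearEquiv.ofInjective i' hi).trans (LinearEquiv.ofEq _ _ hr))
  haveI : Module.FinitePresentation P N₃ := h₃'
  exact Module.finitePresentation_of_ker p' hp

/-- A quotient by a finite submodule preserves relative finite presentation. -/
theorem rel_quotient (i : N₁ →ₗ[S] N₂) (p : N₂ →ₗ[S] N₃) (hp : Function.Surjective p)
    (he : Function.Exact i p) [Module.Finite S N₁] (h₂ : RelFinitePresentation R S N₂) :
    RelFinitePresentation R S N₃ := by
  obtain ⟨n, φ, hφ, h₂⟩ := h₂
  refine ⟨n, φ, hφ, ?_⟩
  let P := MvPolynomial (Fin n) R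
  letI : Module P N₁ := Module.compHom N₁ φ.toRingHom
  letI : Module P N₂ := Module.compHom N₂ φ.toRingHom
  letI : Module P N₃ := Module.compHom N₃ φ.toRingHom
  let i' : N₁ →ₗ[P] N₂ := { toFun := i, map_add' := map_add i, map_smul' := fun a x => map_smul i (φ a) x }
  let p' : N₂ →ₗ[P] N₃ := { toFun := p, map_add' := map_add p, map_smul' := fun a x => map_smul p (φ a) x }
  haveI : Module.FinitePresentation P N₂ := h₂
  refine Module.finitePresentation_of_surjective p' hp ?_
  rw [LinearMap.exact_iff.1 (show Function.Exact i' p' from he)]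
  haveI : Module.Finite P N₁ := by
    obtain ⟨s, hs⟩ := Module.Finite.fg_top (R := S) (M := N₁)
    refine ⟨⟨s, top_le_iff.1 fun x hx => ?_⟩⟩
    clear hx
    induction (hs ▸ trivial : x ∈ Submodule.span S (s : Set N₁)) using Submodule.span_induction with
    | mem c hc => exact Submodule.subset_span hc
    | zero => exact zero_mem _
    | add c d _ _ hc hd => exact add_mem hc hd
    | smul r c _ hc =>
      obtain ⟨a, rfl⟩ := hφ r
      exact Submodule.smul_mem _ a hc
  exact Module.Finite.fg_top.map i' |> fun h => by rwa [Submodule.map_top] at h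

/-- A direct summand of a relatively finitely presented module is relatively finitely presented. -/
theorem rel_summand (i : N₁ →ₗ[S] N₂) (r : N₂ →ₗ[S] N₁) (hri : r.comp i = LinearMap.id)
    (h₂ : RelFinitePresentation R S N₂) : RelFinitePresentation R S N₁ := by
  have hfin : Module.Finite S N₂ := by
    obtain ⟨n, φ, hφ, h⟩ := h₂
    letI : Module (MvPolynomial (Fin n) R) N₂ := Module.compHom N₂ φ.toRingHom
    letI := φ.toRingHom.toAlgebra
    haveI : IsScalarTower (MvPolynomial (Fin n) R) S N₂ :=
      IsScalarTower.of_algebraMap_smul fun _ _ => rfl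
    haveI : Module.FinitePresentation (MvPolynomial (Fin n) R) N₂ := h
    exact Module.Finite.of_restrictScalars_finite (MvPolynomial (Fin n) R) S N₂
  refine rel_quotient (N₁ := N₂) ((LinearMap.id : N₂ →ₗ[S] N₂) - i.comp r) r
    (fun x => ⟨i x, LinearMap.congr_fun hri x⟩) ?_ h₂
  intro y
  constructor
  · exact fun hy => ⟨y, by simp [hy]⟩
  · rintro ⟨z, rfl⟩
    have := LinearMap.congr_fun hri (r z)
    simp only [LinearMap.comp_apply, LinearMap.id_apply] at this
    simp [this]

end Modules

section Finite

variable {R B S : Type u} [CommRing R] [CommRing B] [CommRing S] [Algebra R B] [Algebra R S]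
variable [Algebra B S] [IsScalarTower R B S]

/-- A finite algebra is a quotient of a finite, finitely presented algebra of any presenting ring. -/
theorem exists_finite_model {P : Type u} [CommRing P] [Algebra P S] [Module.Finite P S] :
    ∃ (Q : Type u) (_ : CommRing Q) (_ : Algebra P Q) (_ : Algebra.FinitePresentation P Q)
      (_ : Module.FinitePresentation P Q) (f : Q →ₐ[P] S), Function.Surjective f := by
  classical
  obtain ⟨k, π, hπ⟩ := Algebra.FiniteType.iff_quotient_mvPolynomial''.1
    (inferInstance : Algebra.FiniteType P S)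
  choose p hp hp0 using fun j : Fin k => Algebra.IsIntegral.isIntegral (R := P) (π (MvPolynomial.X j))
  let I : Ideal (MvPolynomial (Fin k) P) :=
    Ideal.span (Set.range fun j => Polynomial.aeval (MvPolynomial.X j) (p j))
  let Q := MvPolynomial (Fin k) P ⧸ I
  have hfp : Algebra.FinitePresentation P Q :=
    Algebra.FinitePresentation.quotient ⟨Finset.univ.image fun j => Polynomial.aeval (MvPolynomial.X j) (p j), by rw [Finset.coe_image, Finset.coe_univ, Set.image_univ]⟩
  have hint : Algebra.IsIntegral P Q := ⟨fun x => by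
    obtain ⟨x, rfl⟩ := Ideal.Quotient.mk_surjective x
    induction x using MvPolynomial.induction_on with
    | C a => exact isIntegral_algebraMap
    | add x y hx hy => rw [map_add]; exact hx.add hy
    | mul_X x j hx =>
      rw [map_mul]
      refine hx.mul ⟨p j, hp j, ?_⟩
      show Polynomial.aeval (Ideal.Quotient.mkₐ P I (MvPolynomial.X j)) (p j) = 0
      rw [Polynomial.aeval_algHom_apply]
      exact Ideal.Quotient.eq_zero_iff_mem.2 (Ideal.subset_span ⟨j, rfl⟩)⟩
  have : Module.Finite P Q := Algebra.IsIntegral.finite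
  refine ⟨Q, inferInstance, inferInstance, hfp,
    Module.FinitePresentation.of_finite_of_finitePresentation P Q, Ideal.Quotient.liftₐ I π ?_, ?_⟩
  · show I ≤ RingHom.ker π
    rw [Ideal.span_le]
    rintro _ ⟨j, rfl⟩
    show π (Polynomial.aeval (MvPolynomial.X j) (p j)) = 0
    rw [← Polynomial.aeval_algHom_apply]
    exact hp0 j
  · exact fun s => by obtain ⟨x, rfl⟩ := hπ s; exact ⟨Ideal.Quotient.mk I x, rfl⟩

/-- Relative finite presentation is insensitive to finite changes of rings. -/
theorem rel_finite_iff [Algebra.FiniteType R B] [Module.Finite B S] {N : Type u} [AddCommGroup N]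
    [Module S N] [Module B N] [IsScalarTower B S N] :
    RelFinitePresentation R S N ↔ RelFinitePresentation R B N := by
  obtain ⟨n, φ, hφ⟩ := Algebra.FiniteType.iff_quotient_mvPolynomial''.1
    (inferInstance : Algebra.FiniteType R B)
  let P := MvPolynomial (Fin n) R
  letI : Algebra P S := ((algebraMap B S).comp φ.toRingHom).toAlgebra
  haveI : Module.Finite P S :=
    (RingHom.Finite.comp (show (algebraMap B S).Finite from RingHom.finite_algebraMap.2 inferInstance)
      (RingHom.Finite.of_surjective φ.toRingHom hφ) : ((algebraMap B S).comp φ.toRingHom).Finite)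
  obtain ⟨Q, _, _, _, hQ, f, hf⟩ := exists_finite_model (S := S) (P := P)
  letI : Algebra R Q := ((algebraMap P Q).comp (algebraMap R P)).toAlgebra
  haveI : IsScalarTower R P Q := IsScalarTower.of_algebraMap_eq fun _ => rfl
  haveI : Algebra.FinitePresentation R Q := .trans R P Q
  have hcomp : ∀ a, f (algebraMap P Q a) = algebraMap B S (φ a) := f.commutes
  have hR : ∀ r : R, f.toRingHom (algebraMap R Q r) = algebraMap R S r := fun r => by
    show f (algebraMap P Q (algebraMap R P r)) = _
    rw [hcomp, AlgHom.commutes, ← IsScalarTower.algebraMap_apply]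
  let ψ : Q →ₐ[R] S := { f.toRingHom with commutes' := hR }
  rw [rel_iff ψ hf, rel_iff φ hφ]
  have key : Via (ψ.toRingHom.comp (algebraMap P Q)) N ↔ Via φ.toRingHom N := by
    have e : ∀ (a : P) (x : N), ψ.toRingHom.comp (algebraMap P Q) a • x = φ a • x := fun a x => by
      show f (algebraMap P Q a) • x = _
      rw [hcomp, algebraMap_smul]
    exact ⟨via_of_equiv (AddEquiv.refl N) e, via_of_equiv (AddEquiv.refl N) fun a x => (e a x).symm⟩
  rw [← key]
  refine ⟨via_comp _ _ ?_, via_comp_of_finite _ _ ?_⟩
  · rw [show (algebraMap P Q).toAlgebra = ‹Algebra P Q› from Algebra.algebra_ext _ _ fun _ => rfl]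
    exact hQ
  · exact RingHom.finite_algebraMap.2 inferInstance

end Finite

end Groth.Agent.H56.RelFP.Ops
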