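import Groth.Prelude.Def_Flatn
import Groth.Prelude.Def_Coh
import Groth.Agent.H56.RelFP.Ops
import Groth.Agent.Lib.QCoh.Localizing
import Mathlib.AlgebraicGeometry.Morphisms.FinitePresentation
import Mathlib.AlgebraicGeometry.Morphisms.FiniteType

/-!
# Relative finite presentation can be tested on all pairs of affine opens
-/

set_option autoImplicit false
set_option linter.style.haveILetI false
noncomputable section

universe u

open CategoryTheory AlgebraicGeometry Opposite TopologicalSpace FlatCA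
open Groth.Agent.Lib.QCoh.Localizing

namespace Groth.Agent.H56.RelFP.Scheme

variable {X Y S : Scheme.{u}}

theorem relFPOn_congr {f f' : X ⟶ S} (e : f = f') (F : X.Modules) (U : X.affineOpens)
    (V : S.affineOpens) {h : (U : X.Opens) ≤ f ⁻¹ᵁ (V : S.Opens)}
    {h' : (U : X.Opens) ≤ f' ⁻¹ᵁ (V : S.Opens)} :
    Flatn.RelFPOn f F U V h ↔ Flatn.RelFPOn f' F U V h' := by
  subst e; exact Iff.rfl

theorem appLE_comp {f : X ⟶ Y} {g : Y ⟶ S} {U : X.Opens} {W : Y.Opens} {V : S.Opens}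
    (hUW : U ≤ f ⁻¹ᵁ W) (hWV : W ≤ g ⁻¹ᵁ V) (h : U ≤ (f ≫ g) ⁻¹ᵁ V) :
    (f ≫ g).appLE V U h = g.appLE V W hWV ≫ f.appLE W U hUW :=
  (Scheme.Hom.appLE_comp_appLE f g V W U hWV hUW).symm

/-- The tower of section rings. -/
theorem relFPOn_comp (g : Y ⟶ S) [LocallyOfFinitePresentation g] (f : X ⟶ Y) (F : X.Modules)
    (U : X.affineOpens) (W : Y.affineOpens) (V : S.affineOpens)
    (hUW : (U : X.Opens) ≤ f ⁻¹ᵁ (W : Y.Opens)) (hWV : (W : Y.Opens) ≤ g ⁻¹ᵁ (V : S.Opens))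
    (h : (U : X.Opens) ≤ (f ≫ g) ⁻¹ᵁ (V : S.Opens)) (hF : Flatn.RelFPOn f F U W hUW) :
    Flatn.RelFPOn (f ≫ g) F U V h := by
  letI : Algebra Γ(S, (V : S.Opens)) Γ(Y, (W : Y.Opens)) := (g.appLE _ _ hWV).hom.toAlgebra
  letI : Algebra Γ(Y, (W : Y.Opens)) Γ(X, (U : X.Opens)) := (f.appLE _ _ hUW).hom.toAlgebra
  letI : Algebra Γ(S, (V : S.Opens)) Γ(X, (U : X.Opens)) := ((f ≫ g).appLE _ _ h).hom.toAlgebra
  haveI : IsScalarTower Γ(S, (V : S.Opens)) Γ(Y, (W : Y.Opens)) Γ(X, (U : X.Opens)) :=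
    IsScalarTower.of_algebraMap_eq fun r => congr($(appLE_comp hUW hWV h) r)
  haveI : Algebra.FinitePresentation Γ(S, (V : S.Opens)) Γ(Y, (W : Y.Opens)) :=
    g.finitePresentation_appLE V.2 W.2 hWV
  exact Core.rel_of_finitePresentation (R' := Γ(Y, (W : Y.Opens))) hF

theorem relFPOn_of_comp (g : Y ⟶ S) [LocallyOfFiniteType g] (f : X ⟶ Y) (F : X.Modules)
    (U : X.affineOpens) (W : Y.affineOpens) (V : S.affineOpens)
    (hUW : (U : X.Opens) ≤ f ⁻¹ᵁ (W : Y.Opens)) (hWV : (W : Y.Opens) ≤ g ⁻¹ᵁ (V : S.Opens))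
    (h : (U : X.Opens) ≤ (f ≫ g) ⁻¹ᵁ (V : S.Opens)) (hF : Flatn.RelFPOn (f ≫ g) F U V h) :
    Flatn.RelFPOn f F U W hUW := by
  letI : Algebra Γ(S, (V : S.Opens)) Γ(Y, (W : Y.Opens)) := (g.appLE _ _ hWV).hom.toAlgebra
  letI : Algebra Γ(Y, (W : Y.Opens)) Γ(X, (U : X.Opens)) := (f.appLE _ _ hUW).hom.toAlgebra
  letI : Algebra Γ(S, (V : S.Opens)) Γ(X, (U : X.Opens)) := ((f ≫ g).appLE _ _ h).hom.toAlgebra
  haveI : IsScalarTower Γ(S, (V : S.Opens)) Γ(Y, (W : Y.Opens)) Γ(X, (U : X.Opens)) :=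
    IsScalarTower.of_algebraMap_eq fun r => congr($(appLE_comp hUW hWV h) r)
  haveI : Algebra.FiniteType Γ(S, (V : S.Opens)) Γ(Y, (W : Y.Opens)) :=
    g.finiteType_appLE V.2 W.2 hWV
  exact Core.rel_of_finiteType (R := Γ(S, (V : S.Opens))) hF

/-- Shrinking or enlarging the affine open of the base. -/
theorem relFPOn_iff_base (f : X ⟶ S) (F : X.Modules) (U : X.affineOpens) (V V' : S.affineOpens)
    (hV : (V' : S.Opens) ≤ (V : S.Opens)) (h : (U : X.Opens) ≤ f ⁻¹ᵁ (V : S.Opens))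
    (h' : (U : X.Opens) ≤ f ⁻¹ᵁ (V' : S.Opens)) :
    Flatn.RelFPOn f F U V' h' ↔ Flatn.RelFPOn f F U V h := by
  have hV' : (V' : S.Opens) ≤ (𝟙 S) ⁻¹ᵁ (V : S.Opens) := hV
  have hc : (U : X.Opens) ≤ (f ≫ 𝟙 S) ⁻¹ᵁ (V : S.Opens) := h
  exact ⟨fun hF => (relFPOn_congr (h := hc) (Category.comp_id f) F U V).1
      (relFPOn_comp (𝟙 S) f F U V' V h' hV' hc hF),
    fun hF => relFPOn_of_comp (𝟙 S) f F U V' V h' hV' hc
      ((relFPOn_congr (Category.comp_id f) F U V).2 hF)⟩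

section Local

variable {U : X.Opens} (F : X.Modules) (g : Γ(X, U))

/-- Sections on a basic open as a module over the sections on the ambient open. -/
@[reducible]
def moduleBasic : Module Γ(X, U) Γ(F, X.basicOpen g) :=
  Module.compHom _ (resR (X.basicOpen_le g))

/-- Restriction to a basic open, as a linear map. -/
def resLin : letI := moduleBasic F g
    Γ(F, U) →ₗ[Γ(X, U)] Γ(F, X.basicOpen g) :=
  letI := moduleBasic F g
  { toFun := res F (X.basicOpen_le g)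
    map_add' := map_add _
    map_smul' := fun r x => res_smul (X.basicOpen_le g) r x }

theorem isScalarTower_basic : letI := moduleBasic F g
    IsScalarTower Γ(X, U) Γ(X, X.basicOpen g) Γ(F, X.basicOpen g) :=
  letI := moduleBasic F g
  IsScalarTower.of_algebraMap_smul fun _ _ => rfl

theorem isLocalizedModule_resLin [F.IsQuasicoherent] (hU : IsAffineOpen U) :
    letI := moduleBasic F g
    IsLocalizedModule (Submonoid.powers g) (resLin F g) := by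
  letI := moduleBasic F g
  haveI := hU.isLocalization_basicOpen g
  have hl := localizes_of_isAffineOpen F hU g
  refine IsLocalizedModule.Away.mk_of_addCommGroup ?_ (fun s => ?_) fun t ht => ?_
  · rw [Module.End.isUnit_iff]
    obtain ⟨w, hw⟩ := IsLocalization.Away.algebraMap_isUnit (S := Γ(X, X.basicOpen g)) g
    have : Function.Bijective fun x : Γ(F, X.basicOpen g) =>
        (w : Γ(X, X.basicOpen g)) • x := MulAction.bijective w
    rw [hw] at this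
    exact this
  · obtain ⟨n, t, ht⟩ := hl.ext' s
    refine ⟨n, t, ?_⟩
    show resR (X.basicOpen_le g) (g ^ n) • s = res F (X.basicOpen_le g) t
    rw [ht, map_pow]
  · exact hl.sep t ht

end Local

theorem relFPOn_basicOpen (f : X ⟶ S) (F : X.Modules) [F.IsQuasicoherent] (U : X.affineOpens)
    (V : S.affineOpens) (h : (U : X.Opens) ≤ f ⁻¹ᵁ (V : S.Opens)) (g : Γ(X, (U : X.Opens)))
    (hF : Flatn.RelFPOn f F U V h) :
    Flatn.RelFPOn f F ⟨X.basicOpen g, U.2.basicOpen g⟩ V ((X.basicOpen_le g).trans h) := by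
  letI : Algebra Γ(S, (V : S.Opens)) Γ(X, (U : X.Opens)) := (f.appLE _ _ h).hom.toAlgebra
  letI : Algebra Γ(S, (V : S.Opens)) Γ(X, X.basicOpen g) :=
    (f.appLE _ _ ((X.basicOpen_le g).trans h)).hom.toAlgebra
  haveI : IsScalarTower Γ(S, (V : S.Opens)) Γ(X, (U : X.Opens)) Γ(X, X.basicOpen g) :=
    IsScalarTower.of_algebraMap_eq fun r =>
      congr($((Scheme.Hom.appLE_map f h (homOfLE (X.basicOpen_le g)).op).symm) r)
  haveI := U.2.isLocalization_basicOpen g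
  letI := moduleBasic F g
  haveI := isScalarTower_basic F g
  haveI := isLocalizedModule_resLin F g U.2
  show FlatCA.RelFinitePresentation Γ(S, (V : S.Opens)) Γ(X, X.basicOpen g) Γ(F, X.basicOpen g)
  exact Core.rel_localization (N' := Γ(F, X.basicOpen g)) g (resLin F g) hF

theorem relFPOn_of_span (f : X ⟶ S) [LocallyOfFiniteType f] (F : X.Modules) [F.IsQuasicoherent]
    (U : X.affineOpens) (V : S.affineOpens) (h : (U : X.Opens) ≤ f ⁻¹ᵁ (V : S.Opens)) {ι : Type u}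
    (g : ι → Γ(X, (U : X.Opens))) (hg : Ideal.span (Set.range g) = ⊤)
    (hF : ∀ i, Flatn.RelFPOn f F ⟨X.basicOpen (g i), U.2.basicOpen (g i)⟩ V
      ((X.basicOpen_le (g i)).trans h)) : Flatn.RelFPOn f F U V h := by
  letI : Algebra Γ(S, (V : S.Opens)) Γ(X, (U : X.Opens)) := (f.appLE _ _ h).hom.toAlgebra
  letI : ∀ i, Algebra Γ(S, (V : S.Opens)) Γ(X, X.basicOpen (g i)) := fun i =>
    (f.appLE _ _ ((X.basicOpen_le (g i)).trans h)).hom.toAlgebra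
  haveI : ∀ i, IsScalarTower Γ(S, (V : S.Opens)) Γ(X, (U : X.Opens)) Γ(X, X.basicOpen (g i)) :=
    fun i => IsScalarTower.of_algebraMap_eq fun r =>
      congr($((Scheme.Hom.appLE_map f h (homOfLE (X.basicOpen_le (g i))).op).symm) r)
  haveI : ∀ i, IsLocalization.Away (g i) Γ(X, X.basicOpen (g i)) := fun i =>
    U.2.isLocalization_basicOpen (g i)
  letI : ∀ i, Module Γ(X, (U : X.Opens)) Γ(F, X.basicOpen (g i)) := fun i => moduleBasic F (g i)
  haveI : ∀ i, IsScalarTower Γ(X, (U : X.Opens)) Γ(X, X.basicOpen (g i)) Γ(F, X.basicOpen (g i)) :=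
    fun i => isScalarTower_basic F (g i)
  haveI : Algebra.FiniteType Γ(S, (V : S.Opens)) Γ(X, (U : X.Opens)) :=
    f.finiteType_appLE V.2 U.2 h
  exact Core.rel_of_span (N' := fun i => Γ(F, X.basicOpen (g i))) g hg (fun i => resLin F (g i))
    (fun i => isLocalizedModule_resLin F (g i) U.2) hF

theorem relFPOn_subst (f : X ⟶ S) (F : X.Modules) {U U' : X.affineOpens}
    (e : (U : X.Opens) = U') (V : S.affineOpens) {h : (U : X.Opens) ≤ f ⁻¹ᵁ (V : S.Opens)}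
    {h' : (U' : X.Opens) ≤ f ⁻¹ᵁ (V : S.Opens)} (hF : Flatn.RelFPOn f F U V h) :
    Flatn.RelFPOn f F U' V h' := by
  obtain rfl : U = U' := Subtype.ext e
  exact hF

/-- Relative finite presentation propagates to small basic opens of any affine pair. -/
theorem exists_shrink (f : X ⟶ S) (F : X.Modules) [F.IsQuasicoherent] {U₀ : X.affineOpens}
    {V₀ : S.affineOpens} {h₀ : (U₀ : X.Opens) ≤ f ⁻¹ᵁ (V₀ : S.Opens)}
    (hF : Flatn.RelFPOn f F U₀ V₀ h₀) (U : X.affineOpens) (V : S.affineOpens)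
    (h : (U : X.Opens) ≤ f ⁻¹ᵁ (V : S.Opens)) (x : X) (hx₀ : x ∈ (U₀ : X.Opens))
    (hx : x ∈ (U : X.Opens)) :
    ∃ g : Γ(X, (U : X.Opens)), x ∈ X.basicOpen g ∧
      Flatn.RelFPOn f F ⟨X.basicOpen g, U.2.basicOpen g⟩ V ((X.basicOpen_le g).trans h) := by
  obtain ⟨a, b, hab, ha⟩ := exists_basicOpen_le_affine_inter V.2 V₀.2 (f x) ⟨h hx, h₀ hx₀⟩
  let V' : S.affineOpens := ⟨S.basicOpen a, V.2.basicOpen a⟩
  obtain ⟨c, hc, hxc⟩ := U.2.exists_basicOpen_le (V := f ⁻¹ᵁ S.basicOpen a) ⟨x, ha⟩ hx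
  obtain ⟨d, e, hde, hxd⟩ :=
    exists_basicOpen_le_affine_inter (U.2.basicOpen c) U₀.2 x ⟨hxc, hx₀⟩
  obtain ⟨g, hg⟩ := U.2.basicOpen_basicOpen_is_basicOpen c d
  refine ⟨g, hg ▸ hxd, ?_⟩
  have hU' : (X.basicOpen g : X.Opens) ≤ f ⁻¹ᵁ (V' : S.Opens) :=
    hg.le.trans ((X.basicOpen_le d).trans hc)
  have h1 : Flatn.RelFPOn f F ⟨X.basicOpen g, U.2.basicOpen g⟩ V₀
      (hg.le.trans (hde.le.trans ((X.basicOpen_le e).trans h₀))) :=
    relFPOn_subst f F (U := ⟨X.basicOpen e, U₀.2.basicOpen e⟩) (hde.symm.trans hg.symm) V₀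
      (relFPOn_basicOpen f F U₀ V₀ h₀ e hF)
  exact (relFPOn_iff_base f F _ V V' (S.basicOpen_le a) _ hU').1
    ((relFPOn_iff_base f F _ V₀ V' (hab.le.trans (S.basicOpen_le b)) _ hU').2 h1)

theorem exists_mem (f : X ⟶ S) {F : X.Modules} (hF : Flatn.IsRelFP f F) (x : X) :
    ∃ (U : X.affineOpens) (V : S.affineOpens) (h : (U : X.Opens) ≤ f ⁻¹ᵁ (V : S.Opens)),
      x ∈ (U : X.Opens) ∧ Flatn.RelFPOn f F U V h := by
  obtain ⟨𝒱, h𝒱, hU⟩ := hF
  have : f x ∈ ⨆ V ∈ 𝒱, (V : S.Opens) := h𝒱 ▸ trivial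
  obtain ⟨V, hV⟩ := Opens.mem_iSup.1 this
  obtain ⟨hV𝒱, hxV⟩ := Opens.mem_iSup.1 hV
  obtain ⟨𝒰, h𝒰, hRel⟩ := hU V hV𝒱
  have : x ∈ ⨆ U ∈ 𝒰, (U : X.Opens) := h𝒰 ▸ hxV
  obtain ⟨U, hU'⟩ := Opens.mem_iSup.1 this
  obtain ⟨hU𝒰, hxU⟩ := Opens.mem_iSup.1 hU'
  have h : (U : X.Opens) ≤ f ⁻¹ᵁ (V : S.Opens) := h𝒰 ▸ le_biSup (fun U : X.affineOpens => (U : X.Opens)) hU𝒰
  exact ⟨U, V, h, hxU, hRel U hU𝒰 h⟩

/-- Relative finite presentation holds if it holds on some affine pair around every point. -/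
theorem isRelFP_of_forall_exists (f : X ⟶ S) (F : X.Modules) [F.IsQuasicoherent]
    (h : ∀ x : X, ∃ (U : X.affineOpens) (V : S.affineOpens)
      (e : (U : X.Opens) ≤ f ⁻¹ᵁ (V : S.Opens)), x ∈ (U : X.Opens) ∧ Flatn.RelFPOn f F U V e) :
    Flatn.IsRelFP f F := by
  refine ⟨Set.univ, top_le_iff.1 fun s _ => ?_, fun V _ => ?_⟩
  · obtain ⟨V, hV, hs, -⟩ := exists_isAffineOpen_mem_and_subset (U := (⊤ : S.Opens)) (x := s) trivial
    exact Opens.mem_iSup.2 ⟨⟨V, hV⟩, Opens.mem_iSup.2 ⟨trivial, hs⟩⟩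
  refine ⟨{U | ∃ e : (U : X.Opens) ≤ f ⁻¹ᵁ (V : S.Opens), Flatn.RelFPOn f F U V e},
    le_antisymm (iSup₂_le fun U hU => hU.1) fun x hx => ?_, fun U hU _ => hU.2⟩
  obtain ⟨U₀, V₀, h₀, hx₀, hF⟩ := h x
  obtain ⟨U, hU, hxU, hUV⟩ :=
    exists_isAffineOpen_mem_and_subset (U := f ⁻¹ᵁ (V : S.Opens)) (x := x) hx
  obtain ⟨g, hxg, hg⟩ := exists_shrink f F hF ⟨U, hU⟩ V hUV x hx₀ hxU
  exact Opens.mem_iSup.2 ⟨⟨X.basicOpen g, hU.basicOpen g⟩, Opens.mem_iSup.2 ⟨⟨_, hg⟩, hxg⟩⟩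

/-- Relative finite presentation holds on all affine pairs. -/
theorem relFPOn_of_isRelFP (f : X ⟶ S) [LocallyOfFiniteType f] (F : X.Modules) [F.IsQuasicoherent]
    (hF : Flatn.IsRelFP f F) (U : X.affineOpens) (V : S.affineOpens)
    (h : (U : X.Opens) ≤ f ⁻¹ᵁ (V : S.Opens)) : Flatn.RelFPOn f F U V h := by
  have : ∀ x : (U : X.Opens), ∃ g : Γ(X, (U : X.Opens)), (x : X) ∈ X.basicOpen g ∧
      Flatn.RelFPOn f F ⟨X.basicOpen g, U.2.basicOpen g⟩ V ((X.basicOpen_le g).trans h) := by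
    intro x
    obtain ⟨U₀, V₀, h₀, hx₀, hU₀⟩ := exists_mem f hF x
    exact exists_shrink f F hU₀ U V h x hx₀ x.2
  choose g hxg hg using this
  refine relFPOn_of_span f F U V h g ?_ hg
  rw [← U.2.iSup_basicOpen_eq_self_iff]
  refine le_antisymm (iSup_le fun i => X.basicOpen_le _) fun x hx => ?_
  exact Opens.mem_iSup.2 ⟨⟨g ⟨x, hx⟩, ⟨x, hx⟩, rfl⟩, hxg ⟨x, hx⟩⟩

end Groth.Agent.H56.RelFP.Scheme
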