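import Groth.Agent.H56.RelFP.Scheme
import Groth.Agent.Lib.ZarCoh.FlatBC.PullbackSections
import Groth.Agent.Lib.QCoh.Closure
import Groth.Agent.Lib.QCoh.Pushforward
import Groth.Agent.Lib.CohBasics.Affine
import Mathlib.AlgebraicGeometry.Morphisms.Flat
import Mathlib.AlgebraicGeometry.Morphisms.Finite

/-!
# Pullback, pushforward and exact sequences of relatively finitely presented modules
-/

set_option autoImplicit false
set_option linter.style.haveILetI false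
noncomputable section

universe u

open CategoryTheory CategoryTheory.Limits AlgebraicGeometry Opposite TopologicalSpace FlatCA
open scoped TensorProduct

namespace Groth.Agent.H56.RelFP.Modules

open Groth.Agent.Lib

variable {X Y S : Scheme.{u}}

/-- A morphism of modules on sections, as a linear map. -/
def appLin {M N : X.Modules} (φ : M ⟶ N) (U : X.Opens) : Γ(M, U) →ₗ[Γ(X, U)] Γ(N, U) where
  toFun := φ.app U
  map_add' := map_add _
  map_smul' r x := Scheme.Modules.Hom.app_smul _ r x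

theorem relFPOn_extension (f : X ⟶ S) (E : ShortComplex X.Modules) (hE : E.ShortExact)
    [E.X₁.IsQuasicoherent] (U : X.affineOpens) (V : S.affineOpens)
    (h : (U : X.Opens) ≤ f ⁻¹ᵁ (V : S.Opens)) (h₁ : Flatn.RelFPOn f E.X₁ U V h)
    (h₃ : Flatn.RelFPOn f E.X₃ U V h) : Flatn.RelFPOn f E.X₂ U V h := by
  haveI := hE.mono_f
  letI := (f.appLE (V : S.Opens) (U : X.Opens) h).hom.toAlgebra
  refine Ops.rel_extension (appLin E.f U) (appLin E.g U) (QCoh.Closure.sections_injective_of_mono E.f _)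
    (QCoh.Closure.sections_surjective hE U.2) ?_ h₁ h₃
  intro x
  exact ⟨fun hx => QCoh.Closure.sections_exact hE.exact _ x hx,
    fun ⟨y, hy⟩ => hy ▸ QCoh.Closure.sections_comp _ y⟩

theorem relFPOn_quotient (f : X ⟶ S) (E : ShortComplex X.Modules) (hE : E.ShortExact)
    [E.X₁.IsQuasicoherent] [SheafOfModules.IsFiniteType (R := X.ringCatSheaf) E.X₁]
    (U : X.affineOpens) (V : S.affineOpens) (h : (U : X.Opens) ≤ f ⁻¹ᵁ (V : S.Opens))
    (h₂ : Flatn.RelFPOn f E.X₂ U V h) : Flatn.RelFPOn f E.X₃ U V h := by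
  haveI := hE.mono_f
  letI := (f.appLE (V : S.Opens) (U : X.Opens) h).hom.toAlgebra
  haveI := CohBasics.Affine.finite_sections (M := E.X₁) U.2
  refine Ops.rel_quotient (appLin E.f U) (appLin E.g U) (QCoh.Closure.sections_surjective hE U.2) ?_ h₂
  intro x
  exact ⟨fun hx => QCoh.Closure.sections_exact hE.exact _ x hx,
    fun ⟨y, hy⟩ => hy ▸ QCoh.Closure.sections_comp _ y⟩

theorem relFPOn_retract (f : X ⟶ S) {M N : X.Modules} (i : M ⟶ N) (r : N ⟶ M) (hri : i ≫ r = 𝟙 M)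
    (U : X.affineOpens) (V : S.affineOpens) (h : (U : X.Opens) ≤ f ⁻¹ᵁ (V : S.Opens))
    (hN : Flatn.RelFPOn f N U V h) : Flatn.RelFPOn f M U V h := by
  letI := (f.appLE (V : S.Opens) (U : X.Opens) h).hom.toAlgebra
  have key : ∀ x : Γ(M, (U : X.Opens)), r.app _ (i.app _ x) = x := fun x => by
    rw [← ConcreteCategory.comp_apply, ← Scheme.Modules.Hom.comp_app, hri]
    rfl
  exact Ops.rel_summand (appLin i U) (appLin r U) (LinearMap.ext key) hN

/-- Pullback along a morphism of finite presentation. -/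
theorem relFPOn_pullback (f : X ⟶ Y) (g : Y ⟶ S) [LocallyOfFinitePresentation f]
    (G : Y.Modules) [G.IsQuasicoherent] (U : X.affineOpens) (W : Y.affineOpens) (V : S.affineOpens)
    (hUW : (U : X.Opens) ≤ f ⁻¹ᵁ (W : Y.Opens)) (hWV : (W : Y.Opens) ≤ g ⁻¹ᵁ (V : S.Opens))
    (h : (U : X.Opens) ≤ (f ≫ g) ⁻¹ᵁ (V : S.Opens)) (hG : Flatn.RelFPOn g G W V hWV) :
    Flatn.RelFPOn (f ≫ g) ((Scheme.Modules.pullback f).obj G) U V h := by
  letI : Algebra Γ(S, (V : S.Opens)) Γ(Y, (W : Y.Opens)) := (g.appLE _ _ hWV).hom.toAlgebra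
  letI : Algebra Γ(Y, (W : Y.Opens)) Γ(X, (U : X.Opens)) := (f.appLE _ _ hUW).hom.toAlgebra
  letI : Algebra Γ(S, (V : S.Opens)) Γ(X, (U : X.Opens)) := ((f ≫ g).appLE _ _ h).hom.toAlgebra
  haveI : IsScalarTower Γ(S, (V : S.Opens)) Γ(Y, (W : Y.Opens)) Γ(X, (U : X.Opens)) :=
    IsScalarTower.of_algebraMap_eq fun r => congr($(Scheme.appLE_comp hUW hWV h) r)
  haveI : Algebra.FinitePresentation Γ(Y, (W : Y.Opens)) Γ(X, (U : X.Opens)) :=
    f.finitePresentation_appLE W.2 U.2 hUW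
  let e := LinearEquiv.ofBijective (ZarCoh.FlatBC.PullbackSections.pbTensor f G hUW)
    (ZarCoh.FlatBC.PullbackSections.bijective_pbTensor f G W.2 U.2 hUW)
  exact Core.rel_of_equiv (AlgEquiv.refl (R := Γ(S, (V : S.Opens)))) e.toAddEquiv
    (fun a x => map_smul e a x) (Ops.rel_tensor Γ(X, (U : X.Opens)) hG)

/-- Pullback along a base change. -/
theorem relFPOn_baseChange {X' S' : Scheme.{u}} {f : X ⟶ S} {g : S' ⟶ S} {f' : X' ⟶ S'}
    {g' : X' ⟶ X} (hc : IsPullback g' f' f g) (F : X.Modules) [F.IsQuasicoherent]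
    (U : X.affineOpens) (V : S.affineOpens) (W : S'.affineOpens) (U' : X'.affineOpens)
    (hUV : (U : X.Opens) ≤ f ⁻¹ᵁ (V : S.Opens)) (hWV : (W : S'.Opens) ≤ g ⁻¹ᵁ (V : S.Opens))
    (hU' : (U' : X'.Opens) = g' ⁻¹ᵁ (U : X.Opens) ⊓ f' ⁻¹ᵁ (W : S'.Opens))
    (h' : (U' : X'.Opens) ≤ f' ⁻¹ᵁ (W : S'.Opens)) (hF : Flatn.RelFPOn f F U V hUV) :
    Flatn.RelFPOn f' ((Scheme.Modules.pullback g').obj F) U' W h' := by
  have e' : (U' : X'.Opens) ≤ g' ⁻¹ᵁ (U : X.Opens) := hU'.le.trans inf_le_left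
  letI : Algebra Γ(S, (V : S.Opens)) Γ(S', (W : S'.Opens)) := (g.appLE _ _ hWV).hom.toAlgebra
  letI : Algebra Γ(S, (V : S.Opens)) Γ(X, (U : X.Opens)) := (f.appLE _ _ hUV).hom.toAlgebra
  letI : Algebra Γ(S', (W : S'.Opens)) Γ(X', (U' : X'.Opens)) := (f'.appLE _ _ h').hom.toAlgebra
  letI : Algebra Γ(X, (U : X.Opens)) Γ(X', (U' : X'.Opens)) := (g'.appLE _ _ e').hom.toAlgebra
  letI : Algebra Γ(S, (V : S.Opens)) Γ(X', (U' : X'.Opens)) :=
    ((algebraMap Γ(S', (W : S'.Opens)) Γ(X', (U' : X'.Opens))).comp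
      (algebraMap Γ(S, (V : S.Opens)) Γ(S', (W : S'.Opens)))).toAlgebra
  haveI : IsScalarTower Γ(S, (V : S.Opens)) Γ(S', (W : S'.Opens)) Γ(X', (U' : X'.Opens)) :=
    IsScalarTower.of_algebraMap_eq fun _ => rfl
  have hw : g.appLE _ _ hWV ≫ f'.appLE _ _ h' = f.appLE _ _ hUV ≫ g'.appLE _ _ e' := by
    rw [Scheme.Hom.appLE_comp_appLE, Scheme.Hom.appLE_comp_appLE]
    congr 1
    exact hc.w.symm
  haveI : IsScalarTower Γ(S, (V : S.Opens)) Γ(X, (U : X.Opens)) Γ(X', (U' : X'.Opens)) :=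
    IsScalarTower.of_algebraMap_eq fun a => congr($hw a)
  haveI : Algebra.IsPushout Γ(S, (V : S.Opens)) Γ(S', (W : S'.Opens)) Γ(X, (U : X.Opens))
      Γ(X', (U' : X'.Opens)) :=
    CommRingCat.isPushout_iff_isPushout.mp (by
      have po := (isIso_pushoutSection_iff hc hWV hUV hU').mp
        (isIso_pushoutSection_of_isAffineOpen hc hWV hUV hU' V.2 W.2 U.2)
      exact po.flip)
  let e := LinearEquiv.ofBijective (ZarCoh.FlatBC.PullbackSections.pbTensor g' F e')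
    (ZarCoh.FlatBC.PullbackSections.bijective_pbTensor g' F U.2 U'.2 e')
  exact Core.rel_of_equiv (AlgEquiv.refl (R := Γ(S', (W : S'.Opens)))) e.toAddEquiv
    (fun a x => map_smul e a x)
    (Ops.rel_isPushout Γ(S', (W : S'.Opens)) Γ(X', (U' : X'.Opens)) hF)

/-- The pushforward along a finite morphism. -/
theorem relFPOn_push_iff (π : X ⟶ Y) (g : Y ⟶ S) [IsFinite π] [LocallyOfFiniteType g]
    (F : X.Modules) (W : Y.affineOpens) (V : S.affineOpens)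
    (hWV : (W : Y.Opens) ≤ g ⁻¹ᵁ (V : S.Opens))
    (h : π ⁻¹ᵁ (W : Y.Opens) ≤ (π ≫ g) ⁻¹ᵁ (V : S.Opens)) :
    Flatn.RelFPOn (π ≫ g) F ⟨π ⁻¹ᵁ (W : Y.Opens), W.2.preimage π⟩ V h ↔
      Flatn.RelFPOn g ((Scheme.Modules.pushforward π).obj F) W V hWV := by
  letI : Algebra Γ(S, (V : S.Opens)) Γ(Y, (W : Y.Opens)) := (g.appLE _ _ hWV).hom.toAlgebra
  letI : Algebra Γ(Y, (W : Y.Opens)) Γ(X, π ⁻¹ᵁ (W : Y.Opens)) := (π.app W).hom.toAlgebra
  letI : Algebra Γ(S, (V : S.Opens)) Γ(X, π ⁻¹ᵁ (W : Y.Opens)) :=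
    ((π ≫ g).appLE _ _ h).hom.toAlgebra
  haveI : IsScalarTower Γ(S, (V : S.Opens)) Γ(Y, (W : Y.Opens)) Γ(X, π ⁻¹ᵁ (W : Y.Opens)) :=
    IsScalarTower.of_algebraMap_eq fun r => by
      have := Scheme.appLE_comp (f := π) (g := g) (U := π ⁻¹ᵁ (W : Y.Opens)) le_rfl hWV h
      rw [Scheme.Hom.appLE_eq_app] at this
      exact congr($this r)
  letI : Module Γ(Y, (W : Y.Opens)) Γ(F, π ⁻¹ᵁ (W : Y.Opens)) :=
    Module.compHom _ (π.app W).hom
  haveI : IsScalarTower Γ(Y, (W : Y.Opens)) Γ(X, π ⁻¹ᵁ (W : Y.Opens)) Γ(F, π ⁻¹ᵁ (W : Y.Opens)) :=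
    IsScalarTower.of_algebraMap_smul fun _ _ => rfl
  haveI : Algebra.FiniteType Γ(S, (V : S.Opens)) Γ(Y, (W : Y.Opens)) :=
    g.finiteType_appLE V.2 W.2 hWV
  haveI : Module.Finite Γ(Y, (W : Y.Opens)) Γ(X, π ⁻¹ᵁ (W : Y.Opens)) := π.finite_app W.1 W.2
  exact Ops.rel_finite_iff (R := Γ(S, (V : S.Opens))) (B := Γ(Y, (W : Y.Opens)))
    (S := Γ(X, π ⁻¹ᵁ (W : Y.Opens))) (N := Γ(F, π ⁻¹ᵁ (W : Y.Opens)))

end Groth.Agent.H56.RelFP.Modules
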